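import Mathlib.RingTheory.Spectrum.Prime.Topology
import Mathlib.Topology.Spectral.Prespectral
import Mathlib.RingTheory.Ideal.Maximal
import Mathlib.RingTheory.Algebraic.Integral
import Groth.Prelude.Def_ProEtW

/-!
# A spectrum all of whose points are maximal is profinite
-/

set_option autoImplicit false
universe u

namespace ProfSpecLib

variable (B : Type u) [CommRing B]

theorem t2Space (h : ∀ q : PrimeSpectrum B, q.asIdeal.IsMaximal) : T2Space (PrimeSpectrum B) := by
  refine ⟨fun x y hxy => ?_⟩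
  obtain ⟨f, hfy, hfx⟩ : ∃ f ∈ x.asIdeal, f ∉ y.asIdeal := by
    refine SetLike.not_le_iff_exists.1 fun hle => hxy (PrimeSpectrum.ext ?_)
    exact (h x).eq_of_le y.isPrime.ne_top hle
  have hnil : ∃ s, s ∉ x.asIdeal ∧ ∃ n : ℕ, s * f ^ n = 0 := by
    by_contra hne
    push_neg at hne
    have hdis : Disjoint ((⊥ : Ideal B) : Set B)
        ((x.asIdeal.primeCompl ⊔ Submonoid.powers f : Submonoid B) : Set B) := by
      rw [Set.disjoint_left]
      intro z hz hz'
      obtain ⟨s, hs, t, ⟨n, rfl⟩, rfl⟩ := Submonoid.mem_sup.1 hz'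
      exact hne s hs n (Ideal.mem_bot.1 hz)
    obtain ⟨P, hP, -, hPd⟩ := Ideal.exists_le_prime_disjoint _ _ hdis
    have hPx : P ≤ x.asIdeal := fun z hz => by
      by_contra hzx
      exact Set.disjoint_left.1 hPd hz (Submonoid.mem_sup_left (show z ∈ x.asIdeal.primeCompl from hzx))
    have hEq : P = x.asIdeal := (h ⟨P, hP⟩).eq_of_le x.isPrime.ne_top hPx
    exact Set.disjoint_left.1 hPd (hEq ▸ hfy) (Submonoid.mem_sup_right (Submonoid.mem_powers f))
  obtain ⟨s, hs, n, hn⟩ := hnil
  refine ⟨_, _, (PrimeSpectrum.basicOpen s).2, (PrimeSpectrum.basicOpen f).2, hs, hfx, ?_⟩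
  rw [Set.disjoint_left]
  intro z hzs hzf
  rcases z.isPrime.mem_or_mem (hn ▸ z.asIdeal.zero_mem : s * f ^ n ∈ z.asIdeal) with h1 | h1
  · exact hzs h1
  · exact hzf (z.isPrime.mem_of_pow_mem n h1)

theorem isProfinite (h : ∀ q : PrimeSpectrum B, q.asIdeal.IsMaximal) :
    ProEtW.IsProfinite (PrimeSpectrum B) := by
  haveI := t2Space B h
  exact ⟨inferInstance, inferInstance, inferInstance⟩

theorem isMaximal_of_t2Space (A : Type u) [CommRing A] [T2Space (PrimeSpectrum A)] (p : PrimeSpectrum A) :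
    p.asIdeal.IsMaximal :=
  (PrimeSpectrum.isClosed_singleton_iff_isMaximal p).1 isClosed_singleton

theorem isProfinite_of_incomparable (A : Type u) [CommRing A] [Algebra A B] [T2Space (PrimeSpectrum A)]
    (h : ∀ q q' : PrimeSpectrum B, q.asIdeal.comap (algebraMap A B) = q'.asIdeal.comap (algebraMap A B) →
      q.asIdeal ≤ q'.asIdeal → q = q') : ProEtW.IsProfinite (PrimeSpectrum B) := by
  refine isProfinite B fun q => ?_
  obtain ⟨m, hm, hle⟩ := Ideal.exists_le_maximal q.asIdeal q.isPrime.ne_top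
  have hp : (q.asIdeal.comap (algebraMap A B)).IsMaximal :=
    isMaximal_of_t2Space A (PrimeSpectrum.comap (algebraMap A B) q)
  have := hm.isPrime
  have heq := h q ⟨m, hm.isPrime⟩
    (hp.eq_of_le (Ideal.IsPrime.ne_top inferInstance) (Ideal.comap_mono hle)) hle
  rw [heq]
  exact hm

end ProfSpecLib
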